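import Mathlib
import Cfsg.Prelude.Def_SporadicCombinatorics

/-! The ternary code of length twelve in six free coordinates. -/

set_option autoImplicit false

namespace Cfsg.Agent.Ternary

open Cfsg Finset

/-- Parameters of a word. -/
abbrev Par : Type := ZMod 3 × ZMod 3 × ZMod 3 × ZMod 3 × ZMod 3 × ZMod 3

/-- The word with given values at six positions. -/
def word : Par → ArrayPt → ZMod 3
  | (a, b, c, d, e, f), (i, r) => match i.val, r.val with
    | 0, 0 => a
    | 0, 1 => b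
    | 0, _ => c
    | 1, 0 => d
    | 1, 1 => e
    | 1, _ => a + b + c + 2 * d + 2 * e
    | 2, 0 => f
    | 2, 1 => 2 * b + c + 2 * d + e + f
    | 2, _ => a + 2 * b + d + 2 * e + f
    | _, 0 => a + 2 * b + 2 * c + 2 * d + 2 * f
    | _, 1 => a + c + d + e + 2 * f
    | _, _ => 2 * a + 2 * b + c + 2 * e + 2 * f

/-- The scalar of a word. -/
def sOf : Par → ZMod 3
  | (a, b, c, _, _, _) => 2 * a + 2 * b + 2 * c

/-- The free coordinates. -/
def par (x : ArrayPt → ZMod 3) : Par :=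
  (x (0, 0), x (0, 1), x (0, 2), x (1, 0), x (1, 1), x (2, 0))

theorem par_word (p : Par) : par (word p) = p := rfl

theorem word_injective : Function.Injective word := fun p q h => by
  rw [← par_word p, h, par_word]

/-- The nine small words. -/
def tet (a b : ZMod 3) : Fin 4 → ZMod 3 := a • ![0, 1, 1, 1] + b • ![1, 0, 1, 2]

theorem tet_mem (a b : ZMod 3) : tet a b ∈ tetracode :=
  Submodule.mem_span_pair.mpr ⟨a, b, rfl⟩

theorem word_ok : ∀ p : Par, (∀ i : Fin 4, ∑ r : ZMod 3, word p (i, r) = -sOf p) ∧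
    ∀ a b : ZMod 3, ∑ i : Fin 4, word p (i, tet a b i) = sOf p := by
  decide +kernel

theorem word_mem (p : Par) : word p ∈ ternaryGolayCode :=
  ⟨sOf p, (word_ok p).1, fun t ht => by
    obtain ⟨a, b, rfl⟩ := Submodule.mem_span_pair.mp ht
    exact (word_ok p).2 a b⟩

theorem sum_three (g : ZMod 3 → ZMod 3) : ∑ r, g r = g 0 + g 1 + g 2 := Fin.sum_univ_three g

theorem eq_word {x : ArrayPt → ZMod 3} (hx : x ∈ ternaryGolayCode) : x = word (par x) := by
  obtain ⟨s, h1, h2⟩ := hx
  have c0 := h1 0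
  have c1 := h1 1
  have c2 := h1 2
  have c3 := h1 3
  have d00 := h2 (tet 0 0) (tet_mem 0 0)
  have d01 := h2 (tet 0 1) (tet_mem 0 1)
  have d10 := h2 (tet 1 0) (tet_mem 1 0)
  rw [sum_three] at c0 c1 c2 c3
  simp only [Fin.sum_univ_four, show tet 0 0 = ![0, 0, 0, 0] by decide,
    show tet 0 1 = ![1, 0, 1, 2] by decide, show tet 1 0 = ![0, 1, 1, 1] by decide,
    Matrix.cons_val_zero, Matrix.cons_val_one, Matrix.cons_val_two, Matrix.cons_val_three,
    Matrix.head_cons, Matrix.tail_cons, Matrix.cons_val] at d00 d01 d10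
  funext ⟨i, r⟩
  fin_cases i <;> fin_cases r
  · rfl
  · rfl
  · rfl
  · rfl
  · rfl
  · show x (1, 2) = x (0, 0) + x (0, 1) + x (0, 2) + 2 * x (1, 0) + 2 * x (1, 1)
    linear_combination (norm := (ring_nf; reduce_mod_char)) 2 * c0 + c1
  · rfl
  · show x (2, 1) = 2 * x (0, 1) + x (0, 2) + 2 * x (1, 0) + x (1, 1) + x (2, 0)
    linear_combination (norm := (ring_nf; reduce_mod_char)) 2 * c0 + c3 + 2 * d00 + 2 * d01 + 2 * d10
  · show x (2, 2) = x (0, 0) + 2 * x (0, 1) + x (1, 0) + 2 * x (1, 1) + x (2, 0)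
    linear_combination (norm := (ring_nf; reduce_mod_char)) c2 + 2 * c3 + d00 + d01 + d10
  · show x (3, 0) = x (0, 0) + 2 * x (0, 1) + 2 * x (0, 2) + 2 * x (1, 0) + 2 * x (2, 0)
    linear_combination (norm := (ring_nf; reduce_mod_char)) c0 + d00
  · show x (3, 1) = x (0, 0) + x (0, 2) + x (1, 0) + x (1, 1) + 2 * x (2, 0)
    linear_combination (norm := (ring_nf; reduce_mod_char)) 2 * c0 + 2 * c3 + d00 + d01 + 2 * d10
  · show x (3, 2) = 2 * x (0, 0) + 2 * x (0, 1) + x (0, 2) + 2 * x (1, 1) + 2 * x (2, 0)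
    linear_combination (norm := (ring_nf; reduce_mod_char)) 2 * c0 + 2 * c3 + d00 + 2 * d01 + d10

theorem mem_iff {x : ArrayPt → ZMod 3} : x ∈ ternaryGolayCode ↔ ∃ p, word p = x :=
  ⟨fun h => ⟨par x, (eq_word h).symm⟩, fun ⟨p, hp⟩ => hp ▸ word_mem p⟩

/-- Weight of a parametrised word. -/
def wt (p : Par) : ℕ := (ternarySupport (word p)).card

theorem weights : ∀ p : Par, p ≠ 0 → wt p = 6 ∨ wt p = 9 ∨ wt p = 12 := by decide +kernel

theorem counts : ((univ : Finset Par).filter fun p => wt p = 6).card = 264 ∧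
    ((univ : Finset Par).filter fun p => wt p = 9).card = 440 ∧
    ((univ : Finset Par).filter fun p => wt p = 12).card = 24 := by decide +kernel

theorem word_zero : word 0 = 0 := by decide +kernel

theorem six_le {x : ArrayPt → ZMod 3} (hx : x ∈ ternaryGolayCode) (h : x ≠ 0) :
    6 ≤ (ternarySupport x).card := by
  obtain ⟨p, rfl⟩ := mem_iff.mp hx
  have := weights p (fun e => h (by rw [e, word_zero]))
  simp only [wt] at this
  omega

theorem ncard_weight (k : ℕ) :
    {x : ArrayPt → ZMod 3 | x ∈ ternaryGolayCode ∧ (ternarySupport x).card = k}.ncard =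
      ((univ : Finset Par).filter fun p => wt p = k).card := by
  rw [← Set.ncard_coe_finset, ← Set.ncard_image_of_injective _ word_injective]
  congr 1
  ext x
  constructor
  · rintro ⟨hx, hk⟩
    obtain ⟨p, rfl⟩ := mem_iff.mp hx
    exact ⟨p, Finset.mem_coe.mpr (Finset.mem_filter.mpr ⟨Finset.mem_univ _, hk⟩), rfl⟩
  · rintro ⟨p, hp, rfl⟩
    exact ⟨word_mem p, (Finset.mem_filter.mp (Finset.mem_coe.mp hp)).2⟩

end Cfsg.Agent.Ternary
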